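import Mathlib
import Cfsg.Prelude.Def_OddOrderLocal
import Cfsg.Statements.S1350
import Cfsg.Statements.S1375
import Cfsg.Statements.S1378
import Cfsg.Statements.S1409
import Cfsg.Statements.S1417
import Cfsg.Statements.S1418
import Cfsg.Statements.S1420
import Cfsg.Statements.S1424
import Cfsg.Statements.S1432
import Cfsg.Agent.Lib.Helper67.BG.Basics
import Cfsg.Agent.Lib.Helper67.BG.HallUtil
import Cfsg.Agent.Lib.Helper67.BG.S1357Core
import Cfsg.Agent.Lib.Helper35.BG.Basic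
import Cfsg.Agent.Lib.Helper35.BG.Hall
import Cfsg.Agent.Lib.Helper35.BG.S1355Core
import Cfsg.Agent.Lib.Helper74.BG.Tools
import Cfsg.Agent.Lib.Helper20.BG.S1408Core

/-!
Statement S1375 (Bender–Glauberman Theorem 14.4, main part) with S1350, S1378, S1409, S1417,
S1418, S1420, S1424, S1432 as hypotheses (helper44).
-/

set_option autoImplicit false

namespace Cfsg.Agent.Lib.Helper44.BG

open Cfsg

variable {G : Type*} [Group G]

/-- Conjugating a complement by an element of `M` gives a complement (of a normal factor). -/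
theorem isComplIn_map_conj {A B M : Subgroup G} (h : IsComplIn A B M) {g : G} (hg : g ∈ M)
    (hB : M ≤ Subgroup.normalizer (B : Set G)) :
    IsComplIn (A.map (MulAut.conj g).toMonoidHom) B M := by
  obtain ⟨hAM, hBM, hAB, hprod⟩ := h
  have hgB : ∀ b, b ∈ B → g⁻¹ * b * g ∈ B := by
    intro b hb
    have h1 := (Subgroup.mem_normalizer_iff.mp (hB (M.inv_mem hg)) b).mp hb
    simpa using h1
  have hgB' : ∀ b, b ∈ B → g * b * g⁻¹ ∈ B := by
    intro b hb
    exact (Subgroup.mem_normalizer_iff.mp (hB hg) b).mp hb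
  refine ⟨?_, hBM, ?_, ?_⟩
  · rintro _ ⟨a, ha, rfl⟩
    change g * a * g⁻¹ ∈ M
    exact M.mul_mem (M.mul_mem hg (hAM ha)) (M.inv_mem hg)
  · rw [eq_bot_iff]
    intro y hy
    rw [Subgroup.mem_inf] at hy
    obtain ⟨hy1, hy2⟩ := hy
    rw [Cfsg.Agent.Lib.Helper35.BG.mem_map_conj_iff] at hy1
    have h1 : g⁻¹ * y * g ∈ A ⊓ B := ⟨hy1, hgB y hy2⟩
    rw [hAB, Subgroup.mem_bot] at h1
    rw [Subgroup.mem_bot]
    have : y = g * (g⁻¹ * y * g) * g⁻¹ := by group
    rw [this, h1]; group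
  · intro m hm
    obtain ⟨a, ha, b, hb, hab⟩ := hprod (g⁻¹ * m * g) (M.mul_mem (M.mul_mem (M.inv_mem hg) hm) hg)
    refine ⟨g * a * g⁻¹, Cfsg.Agent.Lib.Helper35.BG.conj_mem_map_conj g ha, g * b * g⁻¹,
      hgB' b hb, ?_⟩
    have : m = g * (g⁻¹ * m * g) * g⁻¹ := by group
    rw [this, hab]; group

/-- An element commuting with `x` commutes with every element of the cyclic group of a power
of `x`. -/
theorem centralizer_singleton_le_centralizer_zpowers_pow (x : G) (k : ℕ) :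
    Subgroup.centralizer ({x} : Set G) ≤
      Subgroup.centralizer ((Subgroup.zpowers (x ^ k) : Subgroup G) : Set G) := by
  intro c hc
  rw [Subgroup.mem_centralizer_iff] at hc ⊢
  have hcx : Commute x c := hc x rfl
  rintro y ⟨n, rfl⟩
  exact ((hcx.pow_left k).zpow_left n).eq

variable [Finite G]

/-- `M_σ = M_F` as soon as `M_σ` is a nilpotent Hall subgroup of the maximal subgroup `M`. -/
theorem sigmaCore_eq_fittingHallOf (hG : IsMinSimpleOddOrder G) (N : Subgroup G)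
    (hN : IsCoatom N) (hHall : IsPiHallOf (sigma N) (sigmaCore N) N)
    (hnil : Group.IsNilpotent (sigmaCore N)) : sigmaCore N = fittingHallOf N := by
  apply le_antisymm
  · unfold fittingHallOf sigmaCore
    apply Subgroup.map_mono
    unfold fittingHall
    refine le_sSup ⟨inferInstance, ?_, ?_⟩
    · have e : ↥(piCore (sigma N) N) ≃* ↥(sigmaCore N) :=
        (piCore (sigma N) N).equivMapOfInjective N.subtype N.subtype_injective
      have := hnil
      exact Group.nilpotent_of_mulEquiv e.symm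
    · rw [Nat.coprime_iff_gcd_eq_one]
      by_contra hne
      obtain ⟨p, hp, hdvd⟩ := Nat.exists_prime_and_dvd hne
      have h1 : p ∣ Nat.card (piCore (sigma N) N) := hdvd.trans (Nat.gcd_dvd_left _ _)
      have h2 : p ∣ (piCore (sigma N) N).index := hdvd.trans (Nat.gcd_dvd_right _ _)
      have h3 : p ∈ sigma N := Cfsg.Agent.S3743.piCore_isPi (sigma N) p hp h1
      apply hHall.2.2 p hp h3
      rw [Cfsg.Agent.Lib.Helper67.BG.relIndex_sigmaCore]
      exact h2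
  · exact Cfsg.Agent.Lib.Helper35.BG.fittingHallOf_le_sigmaCore hG N hN

/-- Structural part of Theorem 14.4: for `p ∈ σ(M)`, a subgroup `X ≤ M` of order `p` and a maximal
subgroup `N ≠ M` over `N_G(X)`: `N` is not conjugate to `M`, `p ∈ τ₂(N)`, `N_σ` is nilpotent and
meets `M` trivially, and `M ∩ N` is a complement to `N_σ` in `N`. -/
theorem s1375_struct (hG : IsMinSimpleOddOrder G)
    (h1350 : type_of% (@Cfsg.CfsgFrozen.S1350 G _ _ hG))
    (h1378 : type_of% (@Cfsg.CfsgFrozen.S1378 G _ _ hG))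
    (h1409 : type_of% (@Cfsg.CfsgFrozen.S1409 G _ _ hG))
    (h1417 : type_of% (@Cfsg.CfsgFrozen.S1417 G _ _ hG))
    (h1418 : type_of% (@Cfsg.CfsgFrozen.S1418 G _ _ hG))
    (h1420 : type_of% (@Cfsg.CfsgFrozen.S1420 G _ _ hG))
    (h1424 : type_of% (@Cfsg.CfsgFrozen.S1424 G _ _ hG))
    (M : Subgroup G) (hM : IsCoatom M) (p : ℕ) (hp : p.Prime) (hpσM : p ∈ sigma M)
    (X : Subgroup G) (hXcard : Nat.card X = p) (hXM : X ≤ M)
    (N : Subgroup G) (hN : IsCoatom N) (hNX : Subgroup.normalizer (X : Set G) ≤ N)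
    (hNM : N ≠ M) :
    (∀ g : G, N ≠ M.map (MulAut.conj g).toMonoidHom) ∧ p ∈ tau2 N ∧
      Group.IsNilpotent (sigmaCore N) ∧ sigmaCore N ⊓ M = ⊥ ∧
      IsComplIn (M ⊓ N) (sigmaCore N) N := by
  have : Fact p.Prime := ⟨hp⟩
  have hXp : IsPGroup p X := IsPGroup.of_card (n := 1) (by rw [hXcard, pow_one])
  have hX1 : X ≠ ⊥ := by
    intro h
    rw [h, Subgroup.card_bot] at hXcard
    exact hp.one_lt.ne hXcard
  have hXN : X ≤ N := (Subgroup.le_normalizer).trans hNX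
  -- a Sylow p-subgroup of M ⊓ N containing X
  have hXMN : X ≤ M ⊓ N := le_inf hXM hXN
  have hXp' : IsPGroup p (X.subgroupOf (M ⊓ N)) := hXp.comap_subtype
  obtain ⟨S, hS⟩ := hXp'.exists_le_sylow
  have hXS : X ≤ (S : Subgroup ↥(M ⊓ N)).map (M ⊓ N).subtype := by
    intro y hy
    exact ⟨⟨y, hXMN hy⟩, hS (Subgroup.mem_subgroupOf.mpr hy), rfl⟩
  obtain ⟨hnconj, -, hSrel⟩ := h1424 M hM p hpσM X hXp hX1 hXM N hN hNM hNX S hXS
  have hpσN : p ∉ sigma N := by
    intro h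
    obtain ⟨g, hg⟩ := h1378.2 M N hM hN ⟨p, hpσM, h⟩
    exact hnconj g hg
  obtain ⟨⟨hr2, hr1⟩, -, -⟩ := h1409 N hN p hpσN X hXcard hNX
  have hτ : p ∈ tau2 N := ⟨hp, hpσN, hr2, hr1⟩
  have hNtop : N ≠ ⊤ := hN.1
  have hNsolv : Group.IsSolvable N := Cfsg.Agent.Lib.Helper35.BG.isSolvable_of_ne_top hG hNtop
  -- an elementary abelian subgroup of order p ^ 2 in M ⊓ N
  obtain ⟨A₀, hA₀N, hA₀e, hA₀c⟩ := Cfsg.Agent.Lib.Helper20.BG.exists_ea_sq N p hr2 hr1
  have hcop : (Nat.card A₀).Coprime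
      (((S : Subgroup ↥(M ⊓ N)).map (M ⊓ N).subtype).relIndex N) := by
    rw [hA₀c]
    exact Nat.Coprime.pow_left 2 ((Nat.Prime.coprime_iff_not_dvd hp).mpr hSrel)
  obtain ⟨l, hlN, hl⟩ :=
    Cfsg.Agent.Lib.Helper74.BG.exists_mem_conj_le_of_coprime_relIndex hNsolv hA₀N hcop
  set A := A₀.map (MulAut.conj l).toMonoidHom with hAdef
  have hAMN : A ≤ M ⊓ N := hl.trans (Subgroup.map_subtype_le _)
  have hAM : A ≤ M := hAMN.trans inf_le_left
  have hAN : A ≤ N := hAMN.trans inf_le_right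
  have hAe : IsElementaryAbelian p A :=
    Cfsg.Agent.Lib.Helper67.BG.isElementaryAbelian_map_conj hA₀e l
  have hAc : Nat.card A = p ^ 2 := by
    rw [hAdef, Cfsg.Agent.Lib.Helper35.BG.card_map_conj, hA₀c]
  obtain ⟨hnil, -, -, -, hE5, -⟩ := h1417 N hN p hτ A ⟨hAN, hAe, hAc⟩
  have hσNM : sigmaCore N ⊓ M = ⊥ := hE5 M hM (Ne.symm hNM) hAM
  -- a complement of N_σ in N containing A
  have hHallN := (h1350 N hN).1
  obtain ⟨E₀, hE₀⟩ := Cfsg.Agent.Lib.Helper67.BG.exists_compl_sigmaCore N hHallN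
  have hcop2 : (Nat.card A).Coprime (E₀.relIndex N) := by
    rw [Cfsg.Agent.Lib.Helper35.BG.relIndex_left_of_isComplIn hE₀, hAc]
    apply Nat.Coprime.pow_left 2
    rw [Nat.Prime.coprime_iff_not_dvd hp]
    intro hdvd
    exact hpσN (Cfsg.Agent.Lib.Helper67.BG.sigmaCore_isPi N p hp hdvd)
  obtain ⟨l', hl'N, hl'⟩ :=
    Cfsg.Agent.Lib.Helper74.BG.exists_mem_conj_le_of_coprime_relIndex hNsolv hAN hcop2
  have hNnorm : N ≤ Subgroup.normalizer (sigmaCore N : Set G) :=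
    Cfsg.Agent.Lib.Helper67.BG.sigmaCore_normalizer N
  have hE : IsComplIn (E₀.map (MulAut.conj l'⁻¹).toMonoidHom) (sigmaCore N) N :=
    isComplIn_map_conj hE₀ (N.inv_mem hl'N) hNnorm
  set E := E₀.map (MulAut.conj l'⁻¹).toMonoidHom with hEdef
  have hAE : A ≤ E := by
    intro a ha
    rw [hEdef, Cfsg.Agent.Lib.Helper35.BG.mem_map_conj_iff]
    have h1 : l' * a * l'⁻¹ ∈ E₀ := hl' (Cfsg.Agent.Lib.Helper35.BG.conj_mem_map_conj l' ha)
    simpa using h1
  obtain ⟨-, ⟨-, hNA, -⟩, -⟩ := h1418 N hN E hE p hτ A ⟨hAE, hAe, hAc⟩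
  -- N_G(A) ≤ M
  obtain ⟨EM, hEM⟩ := Cfsg.Agent.Lib.Helper67.BG.exists_compl_sigmaCore M (h1350 M hM).1
  obtain ⟨-, -, h3, -⟩ := h1420 M hM EM hEM
  have hAp : IsPGroup p A := Cfsg.Agent.Lib.Helper20.BG.isPGroup_of_ea hAe
  have hAncyc : ¬ IsCyclic A := by
    intro hcyc
    have h1 : Nat.card A ≤ p :=
      Cfsg.Agent.Lib.Helper67.BG.card_le_of_isCyclic_of_pow hp.pos
        (fun a : A => Subtype.ext (hAe.2 a a.2))
    rw [hAc] at h1
    have : p < p ^ 2 := by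
      calc p = p ^ 1 := (pow_one p).symm
        _ < p ^ 2 := Nat.pow_lt_pow_right hp.one_lt (by norm_num)
    omega
  have hNAM : Subgroup.normalizer (A : Set G) ≤ M := h3 p A hpσM hAp hAM hAncyc
  have hEM' : E ≤ M := by
    rw [← hNA]
    exact inf_le_right.trans hNAM
  have hMNE : M ⊓ N = E := by
    apply le_antisymm
    · intro m hm
      obtain ⟨e, he, s, hs, hes⟩ := hE.2.2.2 m hm.2
      have hsM : s ∈ M := by
        have : s = e⁻¹ * m := by rw [hes]; group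
        rw [this]
        exact M.mul_mem (M.inv_mem (hEM' he)) hm.1
      have hs1 : s ∈ sigmaCore N ⊓ M := ⟨hs, hsM⟩
      rw [hσNM, Subgroup.mem_bot] at hs1
      rw [hes, hs1, mul_one]
      exact he
    · exact le_inf hEM' hE.1
  refine ⟨hnconj, hτ, hnil, hσNM, ?_⟩
  rw [hMNE]
  exact hE

/-- The subgroup of prime order `p ∣ o(x)` generated by a power of `x ∈ M_σ`. -/
theorem exists_prime_zpowers {M : Subgroup G} {x : G} (hx : x ∈ Cfsg.sigmaCore M) (hx1 : x ≠ 1) :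
    ∃ (p k : ℕ), p.Prime ∧ p ∣ orderOf x ∧ p ∈ sigma M ∧
      Nat.card (Subgroup.zpowers (x ^ k)) = p ∧ Subgroup.zpowers (x ^ k) ≤ M := by
  have hord1 : orderOf x ≠ 1 := fun h => hx1 (orderOf_eq_one_iff.mp h)
  obtain ⟨p, hp, hpx⟩ := Nat.exists_prime_and_dvd hord1
  have hzord : orderOf (x ^ (orderOf x / p)) = p :=
    orderOf_pow_orderOf_div (orderOf_pos x).ne' hpx
  have hXcard : Nat.card (Subgroup.zpowers (x ^ (orderOf x / p))) = p := by
    rw [Nat.card_zpowers, hzord]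
  have hXσ : Subgroup.zpowers (x ^ (orderOf x / p)) ≤ sigmaCore M := by
    rw [Subgroup.zpowers_le]
    exact (sigmaCore M).pow_mem hx _
  refine ⟨p, orderOf x / p, hp, hpx, ?_, hXcard,
    hXσ.trans (Cfsg.Agent.Lib.Helper67.BG.sigmaCore_le M)⟩
  apply Cfsg.Agent.Lib.Helper67.BG.sigmaCore_isPi M p hp
  rw [← hXcard]
  exact Subgroup.card_dvd_of_le hXσ

/-- Structural part of Theorem 14.4: the maximal subgroup `N` over `C_G(x)`. -/
theorem s1375_aux (hG : IsMinSimpleOddOrder G)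
    (h1350 : type_of% (@Cfsg.CfsgFrozen.S1350 G _ _ hG))
    (h1378 : type_of% (@Cfsg.CfsgFrozen.S1378 G _ _ hG))
    (h1409 : type_of% (@Cfsg.CfsgFrozen.S1409 G _ _ hG))
    (h1417 : type_of% (@Cfsg.CfsgFrozen.S1417 G _ _ hG))
    (h1418 : type_of% (@Cfsg.CfsgFrozen.S1418 G _ _ hG))
    (h1420 : type_of% (@Cfsg.CfsgFrozen.S1420 G _ _ hG))
    (h1424 : type_of% (@Cfsg.CfsgFrozen.S1424 G _ _ hG))
    (M : Subgroup G) (hM : IsCoatom M) (x : G) (hx : x ∈ Cfsg.sigmaCore M) (hx1 : x ≠ 1)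
    (hxM : ¬ Subgroup.centralizer ({x} : Set G) ≤ M) :
    ∃ (N : Subgroup G) (p : ℕ), IsCoatom N ∧ Subgroup.centralizer ({x} : Set G) ≤ N ∧
      (∀ g : G, N ≠ M.map (MulAut.conj g).toMonoidHom) ∧
      p.Prime ∧ p ∣ orderOf x ∧ p ∈ tau2 N ∧
      Group.IsNilpotent (sigmaCore N) ∧ sigmaCore N ⊓ M = ⊥ ∧
      IsComplIn (M ⊓ N) (sigmaCore N) N := by
  obtain ⟨p, k, hp, hpx, hpσM, hXcard, hXM⟩ := exists_prime_zpowers hx hx1
  have hX1 : Subgroup.zpowers (x ^ k) ≠ ⊥ := by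
    intro h
    rw [h, Subgroup.card_bot] at hXcard
    exact hp.one_lt.ne hXcard
  have hMtop : M ≠ ⊤ := hM.1
  have hXtop : Subgroup.zpowers (x ^ k) ≠ ⊤ := fun h => hMtop (top_le_iff.mp (h ▸ hXM))
  have hCX : Subgroup.centralizer ({x} : Set G) ≤
      Subgroup.normalizer ((Subgroup.zpowers (x ^ k) : Subgroup G) : Set G) :=
    (centralizer_singleton_le_centralizer_zpowers_pow x k).trans
      (Cfsg.Agent.Lib.Helper35.BG.centralizer_le_normalizer' _)
  obtain ⟨N, hN, hNX⟩ := Cfsg.Agent.Lib.Helper35.BG.exists_coatom_ge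
    (Cfsg.Agent.Lib.Helper35.BG.normalizer_ne_top hG hX1 hXtop)
  have hCN : Subgroup.centralizer ({x} : Set G) ≤ N := hCX.trans hNX
  have hNM : N ≠ M := fun h => hxM (h ▸ hCN)
  obtain ⟨hnconj, hτ, hnil, hσNM, hcompl⟩ :=
    s1375_struct hG h1350 h1378 h1409 h1417 h1418 h1420 h1424 M hM p hp hpσM
      (Subgroup.zpowers (x ^ k)) hXcard hXM N hN hNX hNM
  exact ⟨N, p, hN, hCN, hnconj, hp, hpx, hτ, hnil, hσNM, hcompl⟩

/-- Statement S1375 with S1350, S1378, S1409, S1417, S1418, S1420, S1424, S1432 as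
hypotheses. -/
theorem s1375_core (hG : IsMinSimpleOddOrder G)
    (h1350 : type_of% (@Cfsg.CfsgFrozen.S1350 G _ _ hG))
    (h1378 : type_of% (@Cfsg.CfsgFrozen.S1378 G _ _ hG))
    (h1409 : type_of% (@Cfsg.CfsgFrozen.S1409 G _ _ hG))
    (h1417 : type_of% (@Cfsg.CfsgFrozen.S1417 G _ _ hG))
    (h1418 : type_of% (@Cfsg.CfsgFrozen.S1418 G _ _ hG))
    (h1420 : type_of% (@Cfsg.CfsgFrozen.S1420 G _ _ hG))
    (h1424 : type_of% (@Cfsg.CfsgFrozen.S1424 G _ _ hG))
    (h1432 : type_of% (@Cfsg.CfsgFrozen.S1432 G _ _ hG))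
    (M : Subgroup G) (hM : IsCoatom M) (x : G) (hx : x ∈ Cfsg.sigmaCore M) (hx1 : x ≠ 1)
    (hxM : ¬ Subgroup.centralizer ({x} : Set G) ≤ M) :
    ∃ N : Subgroup G, (IsCoatom N ∧ Subgroup.centralizer ({x} : Set G) ≤ N) ∧
      (∀ L : Subgroup G, IsCoatom L → Subgroup.centralizer ({x} : Set G) ≤ L → L = N) ∧
        Cfsg.sigmaCore N = Cfsg.fittingHallOf N ∧
        Subgroup.centralizer ({x} : Set G) ≤ Subgroup.normalizer
          ((Cfsg.sigmaCore N ⊓ Subgroup.centralizer ({x} : Set G) : Subgroup G) : Set G) ∧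
        Cfsg.IsComplIn (M ⊓ Subgroup.centralizer ({x} : Set G))
          (Cfsg.sigmaCore N ⊓ Subgroup.centralizer ({x} : Set G))
          (Subgroup.centralizer ({x} : Set G)) ∧
        Cfsg.IsComplIn (M ⊓ N) (Cfsg.sigmaCore N) N ∧
        ∀ K' U' : Subgroup G, Cfsg.IsSigmaDecomposition N K' U' →
          U' ≠ ⊥ ∧ x ∈ Cfsg.sigmaA N U' ∧ x ∉ Cfsg.sigmaCore N := by
  obtain ⟨N, p, hN, hCN, -, hp, hpx, hτ, hnil, hσNM, hcompl⟩ :=
    s1375_aux hG h1350 h1378 h1409 h1417 h1418 h1420 h1424 M hM x hx hx1 hxM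
  have hxMem : x ∈ M := Cfsg.Agent.Lib.Helper67.BG.sigmaCore_le M hx
  have hxx : x ∈ Subgroup.centralizer ({x} : Set G) :=
    Subgroup.mem_centralizer_iff.mpr (fun y hy => by
      rw [Set.mem_singleton_iff] at hy; rw [hy])
  have hxN : x ∈ N := hCN hxx
  have hNnorm : N ≤ Subgroup.normalizer (sigmaCore N : Set G) :=
    Cfsg.Agent.Lib.Helper67.BG.sigmaCore_normalizer N
  have hHallN := (h1350 N hN).1
  have hNtop : N ≠ ⊤ := hN.1
  have hNsolv : Group.IsSolvable N := Cfsg.Agent.Lib.Helper35.BG.isSolvable_of_ne_top hG hNtop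
  -- conjugation by x and x⁻¹ preserve M ⊓ N and N_σ
  have hxE : x ∈ M ⊓ N := ⟨hxMem, hxN⟩
  have hconjσ : ∀ s, s ∈ sigmaCore N → x⁻¹ * s * x ∈ sigmaCore N := by
    intro s hs
    have h1 := (Subgroup.mem_normalizer_iff.mp (hNnorm (N.inv_mem hxN)) s).mp hs
    simpa using h1
  -- the factorisation of the centralizer
  have hfac : ∀ c ∈ Subgroup.centralizer ({x} : Set G),
      ∃ e ∈ M ⊓ Subgroup.centralizer ({x} : Set G),
        ∃ s ∈ sigmaCore N ⊓ Subgroup.centralizer ({x} : Set G), c = e * s := by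
    intro c hc
    obtain ⟨e, he, s, hs, hes⟩ := hcompl.2.2.2 c (hCN hc)
    have hcx : x * c = c * x := Subgroup.mem_centralizer_iff.mp hc x rfl
    have h1 : x⁻¹ * e * x * (x⁻¹ * s * x) = e * s := by
      have : x⁻¹ * e * x * (x⁻¹ * s * x) = x⁻¹ * (e * s) * x := by group
      rw [this, ← hes]
      have : x⁻¹ * c * x = x⁻¹ * (c * x) := by group
      rw [this, ← hcx]; group
    have h2 : e⁻¹ * (x⁻¹ * e * x) = s * (x⁻¹ * s * x)⁻¹ := by
      have : x⁻¹ * e * x = e * s * (x⁻¹ * s * x)⁻¹ := by rw [← h1]; group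
      rw [this]; group
    have h3 : e⁻¹ * (x⁻¹ * e * x) ∈ (M ⊓ N) ⊓ sigmaCore N := by
      refine ⟨?_, ?_⟩
      · exact (M ⊓ N).mul_mem ((M ⊓ N).inv_mem he)
          ((M ⊓ N).mul_mem ((M ⊓ N).mul_mem ((M ⊓ N).inv_mem hxE) he) hxE)
      · rw [h2]
        exact (sigmaCore N).mul_mem hs ((sigmaCore N).inv_mem (hconjσ s hs))
    rw [hcompl.2.2.1, Subgroup.mem_bot] at h3
    have he' : x⁻¹ * e * x = e := by
      have : x⁻¹ * e * x = e * (e⁻¹ * (x⁻¹ * e * x)) := by group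
      rw [this, h3, mul_one]
    have hs' : x⁻¹ * s * x = s := by
      have h4 : s * (x⁻¹ * s * x)⁻¹ = 1 := by rw [← h2, h3]
      have : x⁻¹ * s * x = (s * (x⁻¹ * s * x)⁻¹)⁻¹ * s := by group
      rw [this, h4]; group
    have hec : e ∈ Subgroup.centralizer ({x} : Set G) := by
      rw [Subgroup.mem_centralizer_iff]
      intro y hy
      rw [Set.mem_singleton_iff] at hy
      rw [hy]
      have : x * e = x * (x⁻¹ * e * x) := by rw [he']
      rw [this]; group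
    have hsc : s ∈ Subgroup.centralizer ({x} : Set G) := by
      rw [Subgroup.mem_centralizer_iff]
      intro y hy
      rw [Set.mem_singleton_iff] at hy
      rw [hy]
      have : x * s = x * (x⁻¹ * s * x) := by rw [hs']
      rw [this]; group
    exact ⟨e, ⟨he.1, hec⟩, s, ⟨hs, hsc⟩, hes⟩
  have hcomplC : Cfsg.IsComplIn (M ⊓ Subgroup.centralizer ({x} : Set G))
      (Cfsg.sigmaCore N ⊓ Subgroup.centralizer ({x} : Set G))
      (Subgroup.centralizer ({x} : Set G)) := by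
    refine ⟨inf_le_right, inf_le_right, ?_, hfac⟩
    rw [eq_bot_iff]
    intro y hy
    have : y ∈ sigmaCore N ⊓ M := ⟨hy.2.1, hy.1.1⟩
    rw [hσNM] at this
    exact this
  -- a non-identity element of N_σ centralizing x
  have hyex : ∃ y ∈ sigmaCore N ⊓ Subgroup.centralizer ({x} : Set G), y ≠ 1 := by
    by_contra hcon
    simp only [not_exists, not_and, not_not] at hcon
    apply hxM
    intro c hc
    obtain ⟨e, he, s, hs, hes⟩ := hfac c hc
    rw [hes, hcon s hs, mul_one]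
    exact he.1
  obtain ⟨y, hy, hy1⟩ := hyex
  have hyσ : y ∈ sigmaCore N := hy.1
  have hyx : x * y = y * x := Subgroup.mem_centralizer_iff.mp hy.2 x rfl
  -- the primes of o(x) are not in σ(N)
  have hσx : ∀ r : ℕ, r.Prime → r ∣ orderOf x → r ∉ sigma N := by
    intro r hr hrx hrσ
    have hword : orderOf (x ^ (orderOf x / r)) = r :=
      orderOf_pow_orderOf_div (orderOf_pos x).ne' hrx
    have hZN : Subgroup.zpowers (x ^ (orderOf x / r)) ≤ N := by
      rw [Subgroup.zpowers_le]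
      exact N.pow_mem hxN _
    have hZπ : ∀ q : ℕ, q.Prime → q ∣ Nat.card (Subgroup.zpowers (x ^ (orderOf x / r))) →
        q ∈ sigma N := by
      intro q hq hqd
      rw [Nat.card_zpowers, hword] at hqd
      rw [(Nat.prime_dvd_prime_iff_eq hq hr).mp hqd]
      exact hrσ
    have hZσ := Cfsg.Agent.Lib.Helper74.BG.le_of_isPiHallOf_of_normal hHallN hNnorm hZN hZπ
    have hw : x ^ (orderOf x / r) ∈ sigmaCore N ⊓ M :=
      ⟨hZσ (Subgroup.mem_zpowers _), M.pow_mem hxMem _⟩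
    rw [hσNM, Subgroup.mem_bot] at hw
    rw [hw, orderOf_one] at hword
    exact hr.one_lt.ne hword
  have hxcy : x ∈ N ⊓ Subgroup.centralizer ({y} : Set G) := by
    refine Subgroup.mem_inf.mpr ⟨hxN, ?_⟩
    rw [Subgroup.mem_centralizer_iff]
    intro w hw
    rw [Set.mem_singleton_iff] at hw
    rw [hw]
    exact hyx.symm
  have hB : (∀ r : ℕ, r.Prime → r ∣ orderOf x → r ∈ Cfsg.tau2 N) ∧
      (∀ L : Subgroup G, IsCoatom L → Subgroup.centralizer ({x} : Set G) ≤ L → L = N) := by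
    rcases h1432 N hN y hyσ hy1 x hxcy hx1 hσx with ⟨hκ, -⟩ | ⟨hτ2, -, -, huniq⟩
    · exact absurd (hκ p hp hpx) (Cfsg.Agent.Lib.Helper67.BG.not_mem_kappa_of_mem_tau2 hτ)
    · exact ⟨hτ2, huniq⟩
  obtain ⟨hτ2, huniq⟩ := hB
  have hxσN : x ∉ sigmaCore N := by
    intro h
    have : x ∈ sigmaCore N ⊓ M := ⟨h, hxMem⟩
    rw [hσNM, Subgroup.mem_bot] at this
    exact hx1 this
  refine ⟨N, ⟨hN, hCN⟩, huniq, sigmaCore_eq_fittingHallOf hG N hN hHallN hnil, ?_, hcomplC,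
    hcompl, ?_⟩
  · -- C_G(x) normalizes C_{N_σ}(x)
    intro c hc
    rw [Subgroup.mem_normalizer_iff]
    intro w
    have h1 := Subgroup.mem_normalizer_iff.mp (hNnorm (hCN hc)) w
    have h2 := Subgroup.mem_normalizer_iff.mp
      (Subgroup.le_normalizer (H := Subgroup.centralizer ({x} : Set G)) hc) w
    constructor
    · intro hw
      exact ⟨h1.mp hw.1, h2.mp hw.2⟩
    · intro hw
      exact ⟨h1.mpr hw.1, h2.mpr hw.2⟩
  · intro K' U' hdec
    have hUN : U' ≤ N := hdec.compl.1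
    have hKN : K' ≤ N := hdec.hall.1
    -- D = U' N_σ is normalized by N
    have hDnorm : ∀ n ∈ N, (U' ⊔ sigmaCore N).map (MulAut.conj n).toMonoidHom =
        U' ⊔ sigmaCore N := by
      intro n hn
      obtain ⟨u, hu, k, hk, huk⟩ := hdec.compl.2.2.2 n hn
      have hkN : k ∈ N := hdec.compl.2.1 hk
      have hσk : ∀ k ∈ N, (sigmaCore N).map (MulAut.conj k).toMonoidHom = sigmaCore N :=
        fun k hk => Subgroup.mem_normalizer_iff_map_conj_eq.mp (hNnorm hk)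
      have hKnorm : K' ⊔ sigmaCore N ≤ Subgroup.normalizer ((U' ⊔ sigmaCore N : Subgroup G) : Set G) := by
        rw [sup_le_iff]
        constructor
        · intro k hk
          apply Cfsg.Agent.Lib.Helper35.BG.mem_normalizer_of_map_conj_eq
          have hU : U'.map (MulAut.conj k).toMonoidHom = U' :=
            Subgroup.mem_normalizer_iff_map_conj_eq.mp (hdec.normal hk)
          rw [Subgroup.map_sup, hσk k (hKN hk), hU]
        · exact le_sup_right.trans Subgroup.le_normalizer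
      have hunorm : u ∈ Subgroup.normalizer ((U' ⊔ sigmaCore N : Subgroup G) : Set G) :=
        Subgroup.le_normalizer (le_sup_left (a := U') hu)
      have : n ∈ Subgroup.normalizer ((U' ⊔ sigmaCore N : Subgroup G) : Set G) := by
        rw [huk]
        exact Subgroup.mul_mem _ hunorm (hKnorm hk)
      exact Subgroup.mem_normalizer_iff_map_conj_eq.mp this
    -- ⟨x⟩ is conjugate into U'
    have hZN : Subgroup.zpowers x ≤ N := by
      rw [Subgroup.zpowers_le]; exact hxN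
    have hcop : (Nat.card (Subgroup.zpowers x)).Coprime (U'.relIndex N) := by
      rw [Nat.card_zpowers, Cfsg.Agent.Lib.Helper35.BG.relIndex_left_of_isComplIn hdec.compl]
      apply Nat.coprime_of_dvd
      intro k hk hk1 hk2
      have hkτ := hτ2 k hk hk1
      have h3 := hk2.trans (Cfsg.Agent.Lib.Helper35.BG.card_sup_sigmaCore_dvd hKN)
      rcases (Nat.Prime.dvd_mul hk).mp h3 with h4 | h4
      · exact Cfsg.Agent.Lib.Helper67.BG.not_mem_kappa_of_mem_tau2 hkτ (hdec.hall.2.1 k hk h4)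
      · exact hkτ.2.1 (Cfsg.Agent.Lib.Helper67.BG.sigmaCore_isPi N k hk h4)
    obtain ⟨l, hlN, hl⟩ :=
      Cfsg.Agent.Lib.Helper74.BG.exists_mem_conj_le_of_coprime_relIndex hNsolv hZN hcop
    have hxD : x ∈ U' ⊔ sigmaCore N := by
      have h1 : l * x * l⁻¹ ∈ U' ⊔ sigmaCore N :=
        le_sup_left (a := U')
          (hl (Cfsg.Agent.Lib.Helper35.BG.conj_mem_map_conj l (Subgroup.mem_zpowers x)))
      have h2 := hDnorm l⁻¹ (N.inv_mem hlN)
      rw [← h2, Cfsg.Agent.Lib.Helper35.BG.mem_map_conj_iff]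
      simpa using h1
    refine ⟨?_, ⟨⟨hxN, y, hyσ, hy1, hyx⟩, hxD⟩, hxσN⟩
    intro hU
    rw [hU, bot_sup_eq] at hxD
    exact hxσN hxD

end Cfsg.Agent.Lib.Helper44.BG
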