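import Mathlib
import Cfsg.Prelude.Def_OddOrderLocal
import Cfsg.Statements.S1374
import Cfsg.Statements.S1404
import Cfsg.Agent.Lib.Helper44.BG.S1375Core

/-!
Statement S1374 (Bender–Glauberman Theorem 14.4, the sharply transitive action of `R(x)`) with
S1350, S1375, S1378, S1404, S1409, S1417, S1418, S1420, S1424 as hypotheses (helper44), in the
sharper form where `R` is `Cfsg.supportR M x`.
-/

set_option autoImplicit false

namespace Cfsg.Agent.Lib.Helper44.BG

open Cfsg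

variable {G : Type*} [Group G]

/-! ### `R(x)` -/

theorem supportR_eq_bot_of_le {M : Subgroup G} {x : G}
    (h : Subgroup.centralizer ({x} : Set G) ≤ M) : supportR M x = ⊥ := by
  unfold supportR
  rw [dif_neg]
  exact fun h' => h'.1 h

theorem supportR_eq_of_unique {M N : Subgroup G} {x : G}
    (h : ¬ Subgroup.centralizer ({x} : Set G) ≤ M) (hN : IsCoatom N)
    (hCN : Subgroup.centralizer ({x} : Set G) ≤ N)
    (huniq : ∀ L : Subgroup G, IsCoatom L → Subgroup.centralizer ({x} : Set G) ≤ L → L = N) :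
    supportR M x = fittingHallOf N ⊓ Subgroup.centralizer ({x} : Set G) := by
  unfold supportR
  have hex : ∃! L : Subgroup G, IsCoatom L ∧ Subgroup.centralizer ({x} : Set G) ≤ L :=
    ⟨N, ⟨hN, hCN⟩, fun L hL => huniq L hL.1 hL.2⟩
  rw [dif_pos ⟨h, hex⟩]
  have hspec := Classical.choose_spec hex.exists
  rw [huniq _ hspec.1 hspec.2]

theorem supportR_le_centralizer (M : Subgroup G) (x : G) :
    supportR M x ≤ Subgroup.centralizer ({x} : Set G) := by
  unfold supportR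
  split_ifs with h
  · exact inf_le_right
  · exact bot_le

/-! ### conjugation plumbing -/

theorem map_conj_eq_self_of_mem {M : Subgroup G} {m : G} (hm : m ∈ M) :
    M.map (MulAut.conj m).toMonoidHom = M :=
  Subgroup.mem_normalizer_iff_map_conj_eq.mp (Subgroup.le_normalizer hm)

/-- A maximal subgroup of a minimal simple group of odd order containing a non-identity element
is self-normalizing. -/
theorem mem_of_map_conj_eq_self (hG : IsMinSimpleOddOrder G) {M : Subgroup G} (hM : IsCoatom M)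
    {x : G} (hxM : x ∈ M) (hx1 : x ≠ 1) {r : G}
    (h : M.map (MulAut.conj r).toMonoidHom = M) : r ∈ M := by
  have hr : r ∈ Subgroup.normalizer (M : Set G) :=
    Cfsg.Agent.Lib.Helper35.BG.mem_normalizer_of_map_conj_eq h
  have hM1 : M ≠ ⊥ := by
    intro hbot
    rw [hbot, Subgroup.mem_bot] at hxM
    exact hx1 hxM
  have hne : Subgroup.normalizer (M : Set G) ≠ ⊤ :=
    Cfsg.Agent.Lib.Helper35.BG.normalizer_ne_top hG hM1 hM.1
  have heq : Subgroup.normalizer (M : Set G) = M := by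
    by_contra hneq
    exact hne (hM.2 _ (lt_of_le_of_ne Subgroup.le_normalizer (fun h => hneq h.symm)))
  rw [heq] at hr
  exact hr

variable [Finite G]

/-- Fusion control for elements of `M_σ`: a conjugate of `M` containing `x ∈ M_σ^#` is conjugate to
`M` by an element of `C_G(x)`. -/
theorem exists_centralizer_conj (hG : IsMinSimpleOddOrder G)
    (h1350 : type_of% (@Cfsg.CfsgFrozen.S1350 G _ _ hG))
    (h1378 : type_of% (@Cfsg.CfsgFrozen.S1378 G _ _ hG))
    (h1404 : type_of% (@Cfsg.CfsgFrozen.S1404 G _ _ hG))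
    (h1409 : type_of% (@Cfsg.CfsgFrozen.S1409 G _ _ hG))
    (h1417 : type_of% (@Cfsg.CfsgFrozen.S1417 G _ _ hG))
    (h1418 : type_of% (@Cfsg.CfsgFrozen.S1418 G _ _ hG))
    (h1420 : type_of% (@Cfsg.CfsgFrozen.S1420 G _ _ hG))
    (h1424 : type_of% (@Cfsg.CfsgFrozen.S1424 G _ _ hG))
    (M : Subgroup G) (hM : IsCoatom M) (x : G) (hx : x ∈ Cfsg.sigmaCore M) (hx1 : x ≠ 1)
    (g : G) (hg : x ∈ M.map (MulAut.conj g).toMonoidHom) :
    ∃ c ∈ Subgroup.centralizer ({x} : Set G),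
      M.map (MulAut.conj g).toMonoidHom = M.map (MulAut.conj c).toMonoidHom := by
  have hxMem : x ∈ M := Cfsg.Agent.Lib.Helper67.BG.sigmaCore_le M hx
  obtain ⟨p, k, hp, hpx, hpσM, hXcard, hXM⟩ := exists_prime_zpowers hx hx1
  have : Fact p.Prime := ⟨hp⟩
  have hXp : IsPGroup p (Subgroup.zpowers (x ^ k)) :=
    IsPGroup.of_card (n := 1) (by rw [hXcard, pow_one])
  have hX1 : Subgroup.zpowers (x ^ k) ≠ ⊥ := by
    intro h
    rw [h, Subgroup.card_bot] at hXcard
    exact hp.one_lt.ne hXcard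
  have hXtop : Subgroup.zpowers (x ^ k) ≠ ⊤ := fun h => hM.1 (top_le_iff.mp (h ▸ hXM))
  have hXg : (Subgroup.zpowers (x ^ k)).map (MulAut.conj g⁻¹).toMonoidHom ≤ M := by
    rintro _ ⟨y, hy, rfl⟩
    have hy' : y ∈ M.map (MulAut.conj g).toMonoidHom :=
      (Subgroup.zpowers_le.mpr (Subgroup.pow_mem _ hg k)) hy
    rw [Cfsg.Agent.Lib.Helper35.BG.mem_map_conj_iff] at hy'
    simpa [MulAut.conj_apply] using hy'
  obtain ⟨m, hm, c, hc, hgmc⟩ :=
    (h1404 M hM p hpσM (Subgroup.zpowers (x ^ k)) hXp hX1 hXM).1 g⁻¹ hXg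
  have hgc : M.map (MulAut.conj g).toMonoidHom = M.map (MulAut.conj c⁻¹).toMonoidHom := by
    have h1 : g = c⁻¹ * m⁻¹ := by
      rw [← inv_inv g, hgmc]; group
    rw [h1, ← Cfsg.Agent.Lib.Helper35.BG.map_conj_mul, map_conj_eq_self_of_mem (M.inv_mem hm)]
  by_cases hNXM : Subgroup.normalizer ((Subgroup.zpowers (x ^ k) : Subgroup G) : Set G) ≤ M
  · have hcM : c ∈ M := hNXM (Cfsg.Agent.Lib.Helper35.BG.centralizer_le_normalizer' _ hc)
    refine ⟨1, Subgroup.one_mem _, ?_⟩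
    rw [hgc, Cfsg.Agent.Lib.Helper35.BG.map_conj_one, map_conj_eq_self_of_mem (M.inv_mem hcM)]
  · obtain ⟨N, hN, hNX⟩ := Cfsg.Agent.Lib.Helper35.BG.exists_coatom_ge
      (Cfsg.Agent.Lib.Helper35.BG.normalizer_ne_top hG hX1 hXtop)
    have hNM : N ≠ M := fun h => hNXM (h ▸ hNX)
    obtain ⟨-, -, -, hσNM, hcompl⟩ :=
      s1375_struct hG h1350 h1378 h1409 h1417 h1418 h1420 h1424 M hM p hp hpσM
        (Subgroup.zpowers (x ^ k)) hXcard hXM N hN hNX hNM
    have hcN : c⁻¹ ∈ N :=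
      hNX (Cfsg.Agent.Lib.Helper35.BG.centralizer_le_normalizer' _ (Subgroup.inv_mem _ hc))
    have hxx : x ∈ Subgroup.centralizer ({x} : Set G) :=
      Subgroup.mem_centralizer_iff.mpr (fun y hy => by
        rw [Set.mem_singleton_iff] at hy; rw [hy])
    have hxN : x ∈ N :=
      hNX (Cfsg.Agent.Lib.Helper35.BG.centralizer_le_normalizer' _
        (centralizer_singleton_le_centralizer_zpowers_pow x k hxx))
    have hNnorm : N ≤ Subgroup.normalizer (sigmaCore N : Set G) :=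
      Cfsg.Agent.Lib.Helper67.BG.sigmaCore_normalizer N
    obtain ⟨e, he, s, hs, hes⟩ := hcompl.2.2.2 c⁻¹ hcN
    have hs' : e * s * e⁻¹ ∈ sigmaCore N :=
      (Subgroup.mem_normalizer_iff.mp (hNnorm he.2) s).mp hs
    have hgs : M.map (MulAut.conj g).toMonoidHom =
        M.map (MulAut.conj (e * s * e⁻¹)).toMonoidHom := by
      have h1 : c⁻¹ = e * s * e⁻¹ * e := by rw [hes]; group
      rw [hgc, h1, ← Cfsg.Agent.Lib.Helper35.BG.map_conj_mul, map_conj_eq_self_of_mem he.1]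
    refine ⟨e * s * e⁻¹, ?_, hgs⟩
    have h1 : (e * s * e⁻¹)⁻¹ * x * (e * s * e⁻¹) ∈ M := by
      rw [hgs] at hg
      exact Cfsg.Agent.Lib.Helper35.BG.mem_map_conj_iff.mp hg
    have h2 : x⁻¹ * ((e * s * e⁻¹)⁻¹ * x * (e * s * e⁻¹)) ∈ sigmaCore N ⊓ M := by
      refine ⟨?_, M.mul_mem (M.inv_mem hxMem) h1⟩
      have h3 : x⁻¹ * (e * s * e⁻¹)⁻¹ * x⁻¹⁻¹ ∈ sigmaCore N :=
        (Subgroup.mem_normalizer_iff.mp (hNnorm (N.inv_mem hxN)) _).mp
          ((sigmaCore N).inv_mem hs')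
      have h4 : x⁻¹ * ((e * s * e⁻¹)⁻¹ * x * (e * s * e⁻¹)) =
          x⁻¹ * (e * s * e⁻¹)⁻¹ * x⁻¹⁻¹ * (e * s * e⁻¹) := by group
      rw [h4]
      exact (sigmaCore N).mul_mem h3 hs'
    rw [hσNM, Subgroup.mem_bot] at h2
    have h5 : (e * s * e⁻¹)⁻¹ * x * (e * s * e⁻¹) = x := by
      calc (e * s * e⁻¹)⁻¹ * x * (e * s * e⁻¹)
          = x * (x⁻¹ * ((e * s * e⁻¹)⁻¹ * x * (e * s * e⁻¹))) := by group
        _ = x := by rw [h2, mul_one]
    rw [Subgroup.mem_centralizer_iff]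
    intro y hy
    rw [Set.mem_singleton_iff] at hy
    rw [hy]
    calc x * (e * s * e⁻¹) = e * s * e⁻¹ * ((e * s * e⁻¹)⁻¹ * x * (e * s * e⁻¹)) := by group
      _ = e * s * e⁻¹ * x := by rw [h5]

/-- Theorem 14.4 for `R(x) = Cfsg.supportR M x`: it is a normal complement of `C_M(x)` in
`C_G(x)`, of order prime to `|C_M(x)|`, acting sharply transitively on the conjugates of `M`
containing `x`. -/
theorem s1374_sharp (hG : IsMinSimpleOddOrder G)
    (h1350 : type_of% (@Cfsg.CfsgFrozen.S1350 G _ _ hG))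
    (h1375 : type_of% (@Cfsg.CfsgFrozen.S1375 G _ _ hG))
    (h1378 : type_of% (@Cfsg.CfsgFrozen.S1378 G _ _ hG))
    (h1404 : type_of% (@Cfsg.CfsgFrozen.S1404 G _ _ hG))
    (h1409 : type_of% (@Cfsg.CfsgFrozen.S1409 G _ _ hG))
    (h1417 : type_of% (@Cfsg.CfsgFrozen.S1417 G _ _ hG))
    (h1418 : type_of% (@Cfsg.CfsgFrozen.S1418 G _ _ hG))
    (h1420 : type_of% (@Cfsg.CfsgFrozen.S1420 G _ _ hG))
    (h1424 : type_of% (@Cfsg.CfsgFrozen.S1424 G _ _ hG))
    (M : Subgroup G) (hM : IsCoatom M) (x : G) (hx : x ∈ Cfsg.sigmaCore M) (hx1 : x ≠ 1) :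
    (Nat.card ↥(M ⊓ Subgroup.centralizer ({x} : Set G))).Coprime
        ((M ⊓ Subgroup.centralizer ({x} : Set G)).relIndex (Subgroup.centralizer ({x} : Set G))) ∧
      Subgroup.centralizer ({x} : Set G) ≤ Subgroup.normalizer ((supportR M x : Subgroup G) : Set G) ∧
      Cfsg.IsComplIn (M ⊓ Subgroup.centralizer ({x} : Set G)) (supportR M x)
        (Subgroup.centralizer ({x} : Set G)) ∧
      ∀ g : G, x ∈ M.map (MulAut.conj g).toMonoidHom →
        ∃! r : G, r ∈ supportR M x ∧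
          M.map (MulAut.conj r).toMonoidHom = M.map (MulAut.conj g).toMonoidHom := by
  have hxMem : x ∈ M := Cfsg.Agent.Lib.Helper67.BG.sigmaCore_le M hx
  have hfus := exists_centralizer_conj hG h1350 h1378 h1404 h1409 h1417 h1418 h1420 h1424
    M hM x hx hx1
  by_cases hC : Subgroup.centralizer ({x} : Set G) ≤ M
  · rw [supportR_eq_bot_of_le hC]
    have hinf : M ⊓ Subgroup.centralizer ({x} : Set G) = Subgroup.centralizer ({x} : Set G) :=
      inf_eq_right.mpr hC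
    refine ⟨?_, ?_, ?_, ?_⟩
    · rw [hinf, Subgroup.relIndex_self]
      exact Nat.coprime_one_right _
    · intro c _
      rw [Subgroup.mem_normalizer_iff]
      intro h
      simp only [Subgroup.mem_bot]
      constructor
      · intro h1
        rw [h1]; group
      · intro h1
        have : h = c⁻¹ * (c * h * c⁻¹) * c := by group
        rw [this, h1]; group
    · refine ⟨inf_le_right, bot_le, inf_bot_eq _, ?_⟩
      intro m hm
      exact ⟨m, ⟨hC hm, hm⟩, 1, Subgroup.one_mem _, (mul_one m).symm⟩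
    · intro g hg
      obtain ⟨c, hc, hgc⟩ := hfus g hg
      have hgM : M.map (MulAut.conj g).toMonoidHom = M := by
        rw [hgc]
        exact map_conj_eq_self_of_mem (hC hc)
      refine ⟨1, ⟨Subgroup.one_mem _, ?_⟩, ?_⟩
      · rw [Cfsg.Agent.Lib.Helper35.BG.map_conj_one, hgM]
      · rintro r ⟨hr, -⟩
        exact Subgroup.mem_bot.mp hr
  · obtain ⟨N, ⟨hN, hCN⟩, huniq, hσF, hnorm, hcomplC, hcompl, -⟩ := h1375 M hM x hx hx1 hC
    rw [supportR_eq_of_unique hC hN hCN huniq, ← hσF]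
    refine ⟨?_, hnorm, hcomplC, ?_⟩
    · rw [Cfsg.Agent.Lib.Helper35.BG.relIndex_left_of_isComplIn hcomplC]
      apply Nat.coprime_of_dvd
      intro k hk h1 h2
      have h3 : k ∈ sigma N := Cfsg.Agent.Lib.Helper67.BG.sigmaCore_isPi N k hk
        (h2.trans (Subgroup.card_dvd_of_le inf_le_left))
      have h4 : k ∣ (sigmaCore N).relIndex N := by
        rw [Cfsg.Agent.Lib.Helper35.BG.relIndex_right_of_isComplIn hcompl]
        exact h1.trans (Subgroup.card_dvd_of_le (inf_le_inf_left M hCN))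
      exact (h1350 N hN).1.2.2 k hk h3 h4
    · intro g hg
      obtain ⟨c, hc, hgc⟩ := hfus g hg
      obtain ⟨e, he, s, hs, hes⟩ := hcomplC.2.2.2 c hc
      have hs' : e * s * e⁻¹ ∈ sigmaCore N ⊓ Subgroup.centralizer ({x} : Set G) :=
        (Subgroup.mem_normalizer_iff.mp (hnorm he.2) s).mp hs
      have hgs : M.map (MulAut.conj g).toMonoidHom =
          M.map (MulAut.conj (e * s * e⁻¹)).toMonoidHom := by
        have h1 : c = e * s * e⁻¹ * e := by rw [hes]; group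
        rw [hgc, h1, ← Cfsg.Agent.Lib.Helper35.BG.map_conj_mul, map_conj_eq_self_of_mem he.1]
      refine ⟨e * s * e⁻¹, ⟨hs', hgs.symm⟩, ?_⟩
      rintro r ⟨hr, hrg⟩
      have h5 : M.map (MulAut.conj ((e * s * e⁻¹)⁻¹ * r)).toMonoidHom = M := by
        rw [← Cfsg.Agent.Lib.Helper35.BG.map_conj_mul, hrg, hgs,
          Cfsg.Agent.Lib.Helper35.BG.map_conj_mul, inv_mul_cancel,
          Cfsg.Agent.Lib.Helper35.BG.map_conj_one]
      have h6 : (e * s * e⁻¹)⁻¹ * r ∈ M := mem_of_map_conj_eq_self hG hM hxMem hx1 h5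
      have h7 : (e * s * e⁻¹)⁻¹ * r ∈ sigmaCore N ⊓ Subgroup.centralizer ({x} : Set G) :=
        Subgroup.mul_mem _ (Subgroup.inv_mem _ hs') hr
      have h8 : (e * s * e⁻¹)⁻¹ * r ∈ (M ⊓ Subgroup.centralizer ({x} : Set G)) ⊓
          (sigmaCore N ⊓ Subgroup.centralizer ({x} : Set G)) := ⟨⟨h6, h7.2⟩, h7⟩
      rw [hcomplC.2.2.1, Subgroup.mem_bot] at h8
      exact (inv_mul_eq_one.mp h8).symm

/-- Statement S1374 with S1350, S1375, S1378, S1404, S1409, S1417, S1418, S1420, S1424 as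
hypotheses. -/
theorem s1374_core (hG : IsMinSimpleOddOrder G)
    (h1350 : type_of% (@Cfsg.CfsgFrozen.S1350 G _ _ hG))
    (h1375 : type_of% (@Cfsg.CfsgFrozen.S1375 G _ _ hG))
    (h1378 : type_of% (@Cfsg.CfsgFrozen.S1378 G _ _ hG))
    (h1404 : type_of% (@Cfsg.CfsgFrozen.S1404 G _ _ hG))
    (h1409 : type_of% (@Cfsg.CfsgFrozen.S1409 G _ _ hG))
    (h1417 : type_of% (@Cfsg.CfsgFrozen.S1417 G _ _ hG))
    (h1418 : type_of% (@Cfsg.CfsgFrozen.S1418 G _ _ hG))
    (h1420 : type_of% (@Cfsg.CfsgFrozen.S1420 G _ _ hG))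
    (h1424 : type_of% (@Cfsg.CfsgFrozen.S1424 G _ _ hG)) :
    type_of% (@Cfsg.CfsgFrozen.S1374 G _ _ hG) := by
  intro M hM x hx hx1
  obtain ⟨h1, h2, h3, h4⟩ :=
    s1374_sharp hG h1350 h1375 h1378 h1404 h1409 h1417 h1418 h1420 h1424 M hM x hx hx1
  exact ⟨h1, supportR M x, h2, h3, h4⟩

end Cfsg.Agent.Lib.Helper44.BG
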