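import Mathlib
import Cfsg.Prelude.Def_OddOrderLocal
import Cfsg.Statements.S1377
import Cfsg.Statements.S1433
import Cfsg.Agent.Lib.Helper44.BG.S1374Core
import Cfsg.Agent.Lib.Helper76.BG.PolyTilde

/-!
Statement S1377 (Bender–Glauberman Lemma 14.6(?): `|M̃_σ| = (|M_σ| - 1) |G : M|`) with S1350,
S1375, S1378, S1404, S1409, S1417, S1418, S1420, S1424, S1433 as hypotheses (helper44).
-/

set_option autoImplicit false

namespace Cfsg.Agent.Lib.Helper44.BG

open Cfsg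

variable {G : Type*} [Group G]

/-- The set of conjugates of `M`. -/
def conjClass (M : Subgroup G) : Set (Subgroup G) :=
  {M' | ∃ g : G, M' = M.map (MulAut.conj g).toMonoidHom}

/-- Conjugating `M` by an element of `R(b)` does not change `R(b)`. -/
theorem supportR_map_conj_self (M₁ : Subgroup G) (b : G) {r : G} (hr : r ∈ supportR M₁ b) :
    supportR (M₁.map (MulAut.conj r).toMonoidHom) b = supportR M₁ b := by
  have hrb : r * b * r⁻¹ = b := by
    have h1 : r * b = b * r :=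
      Subgroup.mem_centralizer_singleton_iff.mp (supportR_le_centralizer M₁ b hr)
    rw [h1]; group
  have h2 := Cfsg.Agent.Lib.Helper76.BG.supportR_map_conj M₁ b r
  rw [hrb] at h2
  rw [h2, map_conj_eq_self_of_mem hr]

theorem mem_sigmaCore_map_conj_of_commute [Finite G] (M₁ : Subgroup G) {b r : G}
    (hb : b ∈ sigmaCore M₁) (hr : r * b = b * r) :
    b ∈ sigmaCore (M₁.map (MulAut.conj r).toMonoidHom) := by
  rw [Cfsg.Agent.Lib.Helper76.BG.sigmaCore_map_conj, Cfsg.Agent.Lib.Helper35.BG.mem_map_conj_iff]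
  have h1 : r⁻¹ * b * r = b := by
    rw [mul_assoc, ← hr]; group
  rw [h1]; exact hb

/-- The set `M̃_σ` as a union of cosets `b R(b)` over the conjugates of `M`. -/
theorem mem_tildeOf_iff [Finite G] (M : Subgroup G) (t : G) :
    t ∈ tildeOf M ((sigmaCore M : Set G) \ {1}) ↔
      ∃ M₁ ∈ conjClass M, ∃ b ∈ sigmaCore M₁, b ≠ 1 ∧ ∃ ρ ∈ supportR M₁ b, t = b * ρ := by
  constructor
  · rintro ⟨a, ⟨ha, ha1⟩, r, hr, y, rfl⟩
    refine ⟨M.map (MulAut.conj y).toMonoidHom, ⟨y, rfl⟩, y * a * y⁻¹, ?_, ?_, y * r * y⁻¹, ?_,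
      by group⟩
    · rw [Cfsg.Agent.Lib.Helper76.BG.sigmaCore_map_conj]
      exact Cfsg.Agent.Lib.Helper35.BG.conj_mem_map_conj y ha
    · intro h
      apply ha1
      rw [Set.mem_singleton_iff]
      have h1 : a = y⁻¹ * (y * a * y⁻¹) * y := by group
      rw [h1, h]; group
    · rw [Cfsg.Agent.Lib.Helper76.BG.supportR_map_conj]
      exact Cfsg.Agent.Lib.Helper35.BG.conj_mem_map_conj y hr
  · rintro ⟨M₁, ⟨y, rfl⟩, b, hb, hb1, ρ, hρ, rfl⟩
    rw [Cfsg.Agent.Lib.Helper76.BG.sigmaCore_map_conj,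
      Cfsg.Agent.Lib.Helper35.BG.mem_map_conj_iff] at hb
    have hb' : y * (y⁻¹ * b * y) * y⁻¹ = b := by group
    have hρ' : y⁻¹ * ρ * y ∈ supportR M (y⁻¹ * b * y) := by
      have h1 : ρ ∈ supportR (M.map (MulAut.conj y).toMonoidHom) (y * (y⁻¹ * b * y) * y⁻¹) := by
        rw [hb']; exact hρ
      rw [Cfsg.Agent.Lib.Helper76.BG.supportR_map_conj,
        Cfsg.Agent.Lib.Helper35.BG.mem_map_conj_iff] at h1
      exact h1
    refine ⟨y⁻¹ * b * y, ⟨hb, ?_⟩, y⁻¹ * ρ * y, hρ', y, by group⟩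
    intro h
    rw [Set.mem_singleton_iff] at h
    apply hb1
    rw [← hb', h]; group

variable [Finite G]

/-- For conjugate maximal subgroups `M₁`, `M₂` and `b ∈ (M₁)_σ^#` lying in `M₂`, exactly one
element of `R(b)` conjugates `M₁` to `M₂`. -/
theorem exists_unique_supportR_conj (hG : IsMinSimpleOddOrder G)
    (h1350 : type_of% (@Cfsg.CfsgFrozen.S1350 G _ _ hG))
    (h1375 : type_of% (@Cfsg.CfsgFrozen.S1375 G _ _ hG))
    (h1378 : type_of% (@Cfsg.CfsgFrozen.S1378 G _ _ hG))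
    (h1404 : type_of% (@Cfsg.CfsgFrozen.S1404 G _ _ hG))
    (h1409 : type_of% (@Cfsg.CfsgFrozen.S1409 G _ _ hG))
    (h1417 : type_of% (@Cfsg.CfsgFrozen.S1417 G _ _ hG))
    (h1418 : type_of% (@Cfsg.CfsgFrozen.S1418 G _ _ hG))
    (h1420 : type_of% (@Cfsg.CfsgFrozen.S1420 G _ _ hG))
    (h1424 : type_of% (@Cfsg.CfsgFrozen.S1424 G _ _ hG))
    (M₁ M₂ : Subgroup G) (hM₁ : IsCoatom M₁)
    (hconj : ∃ g : G, M₂ = M₁.map (MulAut.conj g).toMonoidHom) (b : G)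
    (hb : b ∈ sigmaCore M₁) (hb1 : b ≠ 1) (hbM₂ : b ∈ M₂) :
    ∃! r : G, r ∈ supportR M₁ b ∧ M₁.map (MulAut.conj r).toMonoidHom = M₂ := by
  obtain ⟨g, rfl⟩ := hconj
  exact (s1374_sharp hG h1350 h1375 h1378 h1404 h1409 h1417 h1418 h1420 h1424
    M₁ hM₁ b hb hb1).2.2.2 g hbM₂

/-- Statement S1377 with S1350, S1375, S1378, S1404, S1409, S1417, S1418, S1420, S1424, S1433 as
hypotheses. -/
theorem s1377_core (hG : IsMinSimpleOddOrder G)
    (h1350 : type_of% (@Cfsg.CfsgFrozen.S1350 G _ _ hG))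
    (h1375 : type_of% (@Cfsg.CfsgFrozen.S1375 G _ _ hG))
    (h1378 : type_of% (@Cfsg.CfsgFrozen.S1378 G _ _ hG))
    (h1404 : type_of% (@Cfsg.CfsgFrozen.S1404 G _ _ hG))
    (h1409 : type_of% (@Cfsg.CfsgFrozen.S1409 G _ _ hG))
    (h1417 : type_of% (@Cfsg.CfsgFrozen.S1417 G _ _ hG))
    (h1418 : type_of% (@Cfsg.CfsgFrozen.S1418 G _ _ hG))
    (h1420 : type_of% (@Cfsg.CfsgFrozen.S1420 G _ _ hG))
    (h1424 : type_of% (@Cfsg.CfsgFrozen.S1424 G _ _ hG))
    (h1433 : type_of% (@Cfsg.CfsgFrozen.S1433 G _ _ hG)) :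
    type_of% (@Cfsg.CfsgFrozen.S1377 G _ _ hG) := by
  intro M hM
  classical
  -- facts on the conjugacy class of M
  have hcoat : ∀ M₁ ∈ conjClass M, IsCoatom M₁ := by
    rintro _ ⟨g, rfl⟩
    exact Cfsg.Agent.Lib.Helper76.BG.isCoatom_map_conj hM g
  have hconj : ∀ M₁ ∈ conjClass M, ∀ M₂ ∈ conjClass M,
      ∃ g : G, M₂ = M₁.map (MulAut.conj g).toMonoidHom := by
    rintro _ ⟨g₁, rfl⟩ _ ⟨g₂, rfl⟩
    exact ⟨g₂ * g₁⁻¹, by rw [Cfsg.Agent.Lib.Helper35.BG.map_conj_mul, inv_mul_cancel_right]⟩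
  have hcl : ∀ M₁ ∈ conjClass M, ∀ r : G,
      M₁.map (MulAut.conj r).toMonoidHom ∈ conjClass M := by
    rintro _ ⟨g₁, rfl⟩ r
    exact ⟨r * g₁, by rw [Cfsg.Agent.Lib.Helper35.BG.map_conj_mul]⟩
  have hF1 : ∀ M₁ ∈ conjClass M, ∀ M₂ ∈ conjClass M, ∀ b ∈ sigmaCore M₁, b ≠ 1 → b ∈ M₂ →
      ∃! r : G, r ∈ supportR M₁ b ∧ M₁.map (MulAut.conj r).toMonoidHom = M₂ :=
    fun M₁ h₁ M₂ h₂ b hb hb1 hb2 =>
      exists_unique_supportR_conj hG h1350 h1375 h1378 h1404 h1409 h1417 h1418 h1420 h1424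
        M₁ M₂ (hcoat M₁ h₁) (hconj M₁ h₁ M₂ h₂) b hb hb1 hb2
  have hF3 : ∀ M₁ ∈ conjClass M, ∀ M₂ ∈ conjClass M, ∀ b : G, b ∈ sigmaCore M₁ → b ≠ 1 →
      b ∈ sigmaCore M₂ → supportR M₂ b = supportR M₁ b := by
    intro M₁ h₁ M₂ h₂ b hb hb1 hb2
    obtain ⟨r, ⟨hr, hrM⟩, -⟩ := hF1 M₁ h₁ M₂ h₂ b hb hb1
      (Cfsg.Agent.Lib.Helper67.BG.sigmaCore_le M₂ hb2)
    rw [← hrM]
    exact supportR_map_conj_self M₁ b hr
  -- the set of pairs (conjugate M', non-identity element of its σ-core)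
  let P : Set (Subgroup G × G) := {q | q.1 ∈ conjClass M ∧ q.2 ∈ sigmaCore q.1 ∧ q.2 ≠ 1}
  -- a base conjugate for each element
  let base : G → Subgroup G := fun b =>
    if h : ∃ M₀ : Subgroup G, M₀ ∈ conjClass M ∧ b ∈ sigmaCore M₀ then Classical.choose h else M
  have hbase : ∀ (M' : Subgroup G) (b : G), M' ∈ conjClass M → b ∈ sigmaCore M' →
      base b ∈ conjClass M ∧ b ∈ sigmaCore (base b) := by
    intro M' b h1 h2
    have h : ∃ M₀ : Subgroup G, M₀ ∈ conjClass M ∧ b ∈ sigmaCore M₀ := ⟨M', h1, h2⟩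
    have hspec := Classical.choose_spec h
    have hb : base b = Classical.choose h := dif_pos h
    rw [hb]
    exact hspec
  let ρ : Subgroup G × G → G := fun q =>
    if h : ∃ r : G, r ∈ supportR (base q.2) q.2 ∧
        (base q.2).map (MulAut.conj r).toMonoidHom = q.1 then Classical.choose h else 1
  have hρ : ∀ (M' : Subgroup G) (b : G), (M', b) ∈ P → ρ (M', b) ∈ supportR (base b) b ∧
      (base b).map (MulAut.conj (ρ (M', b))).toMonoidHom = M' := by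
    rintro M' b ⟨h1, h2, h3⟩
    obtain ⟨hb1, hb2⟩ := hbase M' b h1 h2
    have h : ∃ r : G, r ∈ supportR (base b) b ∧
        (base b).map (MulAut.conj r).toMonoidHom = M' :=
      (hF1 (base b) hb1 M' h1 b hb2 h3 (Cfsg.Agent.Lib.Helper67.BG.sigmaCore_le M' h2)).exists
    have hspec := Classical.choose_spec h
    have hr : ρ (M', b) = Classical.choose h := dif_pos h
    rw [hr]
    exact hspec
  let Φ : Subgroup G × G → G := fun q => q.2 * ρ q
  have hΦinj : Set.InjOn Φ P := by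
    rintro ⟨M₁, b₁⟩ h₁ ⟨M₂, b₂⟩ h₂ heq
    have heq' : b₁ * ρ (M₁, b₁) = b₂ * ρ (M₂, b₂) := heq
    have hq₁ := hρ M₁ b₁ h₁
    have hq₂ := hρ M₂ b₂ h₂
    obtain ⟨hc₁, hs₁, hn₁⟩ := h₁
    obtain ⟨hc₂, hs₂, hn₂⟩ := h₂
    obtain ⟨hb₁c, hb₁s⟩ := hbase M₁ b₁ hc₁ hs₁
    obtain ⟨hb₂c, hb₂s⟩ := hbase M₂ b₂ hc₂ hs₂
    have hbb : b₁ = b₂ := by
      by_contra hne
      exact h1433 (base b₁) (base b₂) (hcoat _ hb₁c) (hcoat _ hb₂c) b₁ b₂ hb₁s hb₂s hn₁ hn₂ hne
        (ρ (M₁, b₁)) hq₁.1 (ρ (M₂, b₂)) hq₂.1 heq'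
    subst hbb
    have hρρ : ρ (M₁, b₁) = ρ (M₂, b₁) := mul_left_cancel heq'
    have hMM : M₁ = M₂ := by
      rw [← hq₁.2, ← hq₂.2, hρρ]
    rw [hMM]
  have hΦimg : Φ '' P = tildeOf M ((sigmaCore M : Set G) \ {1}) := by
    ext t
    rw [mem_tildeOf_iff]
    constructor
    · rintro ⟨⟨M', b⟩, hq, rfl⟩
      have hq' := hρ M' b hq
      obtain ⟨hc, hs, hn⟩ := hq
      obtain ⟨hbc, hbs⟩ := hbase M' b hc hs
      exact ⟨base b, hbc, b, hbs, hn, ρ (M', b), hq'.1, rfl⟩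
    · rintro ⟨M₁, hM₁, b, hb, hb1, ρ', hρ', rfl⟩
      obtain ⟨hbc, hbs⟩ := hbase M₁ b hM₁ hb
      have hsupp : supportR M₁ b = supportR (base b) b := hF3 (base b) hbc M₁ hM₁ b hbs hb1 hb
      rw [hsupp] at hρ'
      have hcomm : ρ' * b = b * ρ' :=
        Subgroup.mem_centralizer_singleton_iff.mp (supportR_le_centralizer _ _ hρ')
      have hqP : ((base b).map (MulAut.conj ρ').toMonoidHom, b) ∈ P :=
        ⟨hcl _ hbc ρ', mem_sigmaCore_map_conj_of_commute _ hbs hcomm, hb1⟩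
      refine ⟨((base b).map (MulAut.conj ρ').toMonoidHom, b), hqP, ?_⟩
      have h2 := hρ _ _ hqP
      have huniq := (hF1 (base b) hbc ((base b).map (MulAut.conj ρ').toMonoidHom)
        (hcl _ hbc ρ') b hbs hb1 (Cfsg.Agent.Lib.Helper67.BG.sigmaCore_le _ hqP.2.1)).unique
          h2 ⟨hρ', rfl⟩
      show b * ρ ((base b).map (MulAut.conj ρ').toMonoidHom, b) = b * ρ'
      rw [huniq]
  -- the count of P
  let Ψ : (G ⧸ M) × G → Subgroup G × G := fun z =>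
    (M.map (MulAut.conj z.1.out).toMonoidHom, z.1.out * z.2 * z.1.out⁻¹)
  have hΨinj : Set.InjOn Ψ (Set.univ ×ˢ ((sigmaCore M : Set G) \ {1})) := by
    rintro ⟨q, a⟩ ⟨-, ha⟩ ⟨q', a'⟩ ⟨-, ha'⟩ heq
    have h1 : M.map (MulAut.conj q.out).toMonoidHom = M.map (MulAut.conj q'.out).toMonoidHom :=
      congrArg Prod.fst heq
    have h2 : q.out * a * q.out⁻¹ = q'.out * a' * q'.out⁻¹ := congrArg Prod.snd heq
    have h3 : M.map (MulAut.conj (q.out⁻¹ * q'.out)).toMonoidHom = M := by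
      rw [← Cfsg.Agent.Lib.Helper35.BG.map_conj_mul, ← h1,
        Cfsg.Agent.Lib.Helper35.BG.map_conj_mul, inv_mul_cancel,
        Cfsg.Agent.Lib.Helper35.BG.map_conj_one]
    have ha1 : a ≠ 1 := fun h => ha.2 (Set.mem_singleton_iff.mpr h)
    have h4 : q.out⁻¹ * q'.out ∈ M :=
      mem_of_map_conj_eq_self hG hM (Cfsg.Agent.Lib.Helper67.BG.sigmaCore_le M ha.1) ha1 h3
    have hqq : q = q' := by
      rw [← QuotientGroup.out_eq' q, ← QuotientGroup.out_eq' q']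
      exact QuotientGroup.eq.mpr h4
    subst hqq
    have haa : a = a' := by
      have h5 : a = q.out⁻¹ * (q.out * a * q.out⁻¹) * q.out := by group
      rw [h5, h2]; group
    rw [haa]
  have hΨimg : Ψ '' (Set.univ ×ˢ ((sigmaCore M : Set G) \ {1})) = P := by
    ext ⟨M', b⟩
    constructor
    · rintro ⟨⟨q, a⟩, ⟨-, ha⟩, heq⟩
      have h1 : M.map (MulAut.conj q.out).toMonoidHom = M' := congrArg Prod.fst heq
      have h2 : q.out * a * q.out⁻¹ = b := congrArg Prod.snd heq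
      refine ⟨⟨q.out, h1.symm⟩, ?_, ?_⟩
      · show b ∈ sigmaCore M'
        rw [← h1, ← h2, Cfsg.Agent.Lib.Helper76.BG.sigmaCore_map_conj]
        exact Cfsg.Agent.Lib.Helper35.BG.conj_mem_map_conj _ ha.1
      · show b ≠ 1
        intro h
        apply ha.2
        rw [Set.mem_singleton_iff]
        have h5 : a = q.out⁻¹ * (q.out * a * q.out⁻¹) * q.out := by group
        rw [h5, h2, h]; group
    · rintro ⟨⟨g, hg⟩, hb, hb1⟩
      have hg' : M' = M.map (MulAut.conj g).toMonoidHom := hg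
      have hb' : b ∈ sigmaCore M' := hb
      have hb1' : b ≠ 1 := hb1
      obtain ⟨m, hm⟩ := QuotientGroup.mk_out_eq_mul M g
      have hout : M.map (MulAut.conj (QuotientGroup.mk g : G ⧸ M).out).toMonoidHom = M' := by
        rw [hm, ← Cfsg.Agent.Lib.Helper35.BG.map_conj_mul, map_conj_eq_self_of_mem m.2]
        exact hg'.symm
      refine ⟨((QuotientGroup.mk g : G ⧸ M),
        (QuotientGroup.mk g : G ⧸ M).out⁻¹ * b * (QuotientGroup.mk g : G ⧸ M).out),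
        ⟨Set.mem_univ _, ?_, ?_⟩, ?_⟩
      · have h1 : b ∈ sigmaCore (M.map (MulAut.conj (QuotientGroup.mk g : G ⧸ M).out).toMonoidHom) := by
          rw [hout]; exact hb'
        rw [Cfsg.Agent.Lib.Helper76.BG.sigmaCore_map_conj,
          Cfsg.Agent.Lib.Helper35.BG.mem_map_conj_iff] at h1
        exact h1
      · intro h
        have h' : (QuotientGroup.mk g : G ⧸ M).out⁻¹ * b * (QuotientGroup.mk g : G ⧸ M).out = 1 :=
          Set.mem_singleton_iff.mp h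
        apply hb1'
        have h5 : b = (QuotientGroup.mk g : G ⧸ M).out *
            ((QuotientGroup.mk g : G ⧸ M).out⁻¹ * b * (QuotientGroup.mk g : G ⧸ M).out) *
            (QuotientGroup.mk g : G ⧸ M).out⁻¹ := by group
        rw [h5, h']; group
      · apply Prod.ext
        · exact hout
        · show (QuotientGroup.mk g : G ⧸ M).out *
            ((QuotientGroup.mk g : G ⧸ M).out⁻¹ * b * (QuotientGroup.mk g : G ⧸ M).out) *
            (QuotientGroup.mk g : G ⧸ M).out⁻¹ = b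
          group
  calc Set.ncard (tildeOf M ((sigmaCore M : Set G) \ {1}))
      = Set.ncard (Φ '' P) := by rw [hΦimg]
    _ = Set.ncard P := hΦinj.ncard_image
    _ = Set.ncard (Ψ '' (Set.univ ×ˢ ((sigmaCore M : Set G) \ {1}))) := by rw [hΨimg]
    _ = Set.ncard (Set.univ ×ˢ ((sigmaCore M : Set G) \ {1}) : Set ((G ⧸ M) × G)) :=
        hΨinj.ncard_image
    _ = Set.ncard (Set.univ : Set (G ⧸ M)) * Set.ncard ((sigmaCore M : Set G) \ {1}) :=
        Set.ncard_prod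
    _ = M.index * (Nat.card (sigmaCore M) - 1) := by
        rw [Set.ncard_univ, ← Subgroup.index_eq_card,
          Set.ncard_sdiff_singleton_of_mem (Subgroup.one_mem _), ← Nat.card_coe_set_eq]
        rfl
    _ = (Nat.card (sigmaCore M) - 1) * M.index := mul_comm _ _

end Cfsg.Agent.Lib.Helper44.BG
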